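import Groth.Agent.L08.NormalQuot.Sep
import Groth.Agent.L08.AbelianGrp
import Groth.Agent.L08.HomSpace.Quot
import Groth.Agent.L25.HopfFlatGen
import Groth.Agent.L20.ThickAffine
import Mathlib.AlgebraicGeometry.Morphisms.Affine
import Mathlib.FieldTheory.IsAlgClosed.AlgebraicClosure

/-!
# The image of an affine algebraic group is affine
-/

set_option autoImplicit false
set_option backward.isDefEq.respectTransparency.types false
set_option linter.style.haveILetI false

universe u

open CategoryTheory CategoryTheory.Limits MonoidalCategory CartesianMonoidalCategory MonObj AlgebraicGeometry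
open TensorProduct WithConv

noncomputable section

namespace Groth.L08.NormalQuot

open Groth.L08.HomSpace

variable {k : Type u} [Field k]

theorem quasiCompact_of_surjective {X Y Z : Scheme.{u}} (p : X ⟶ Y) (h : Y ⟶ Z) [Surjective p]
    [QuasiCompact (p ≫ h)] : QuasiCompact h := by
  refine (quasiCompact_iff h).2 fun U hU hU' => ?_
  have := (QuasiCompact.isCompact_preimage (f := p ≫ h) U hU hU').image p.continuous
  rwa [show (p ≫ h).base ⁻¹' U = p.base ⁻¹' (h.base ⁻¹' U) from rfl,
    Set.image_preimage_eq _ p.surjective] at this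

theorem mono_of_desc {G C Q : Over (Spec (CommRingCat.of k))} [GrpObj G] [GrpObj C] [GrpObj Q]
    (p : G ⟶ C) [IsMonHom p] [Surjective p.left] [Flat p.left] [LocallyOfFinitePresentation p.left]
    (ψ : C ⟶ Q) [IsMonHom ψ] {N : Over (Spec (CommRingCat.of k))} (j : N ⟶ G) (hN : j ≫ p = 1)
    (hK : ∀ {T : Over (Spec (CommRingCat.of k))} (a : T ⟶ G), a ≫ p ≫ ψ = 1 → ∃ z : T ⟶ N, z ≫ j = a) :
    Mono ψ := by
  obtain ⟨K, gK, i, _, _, -, sq⟩ := AbelianGrp.exists_kernel ψ
  refine AbelianGrp.mono_of_kernel ψ i sq ?_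
  let W := pullback i p
  have sqW : IsPullback (pullback.fst i p) (pullback.snd i p) i p := IsPullback.of_hasPullback i p
  haveI : Surjective (pullback.fst i p).left :=
    MorphismProperty.of_isPullback (P := @Surjective) (sqW.map (Over.forget _)).flip ‹_›
  haveI : Flat (pullback.fst i p).left :=
    MorphismProperty.of_isPullback (P := @Flat) (sqW.map (Over.forget _)).flip ‹_›
  haveI : LocallyOfFinitePresentation (pullback.fst i p).left :=
    MorphismProperty.of_isPullback (P := @LocallyOfFinitePresentation) (sqW.map (Over.forget _)).flip ‹_›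
  haveI : Epi (pullback.fst i p) := GQuot.epi_of_cover _
  rw [← cancel_epi (pullback.fst i p), MonObj.comp_one]
  have hw : (pullback.snd i p) ≫ p ≫ ψ = 1 := by
    rw [← reassoc_of% sqW.w, sq.w, ← Category.assoc, toUnit_unique (pullback.fst i p ≫ toUnit K) (toUnit _),
      ← Hom.one_def]
  obtain ⟨z, hz⟩ := hK _ hw
  rw [sqW.w, ← hz, Category.assoc, hN, MonObj.comp_one]

/-- Over an algebraically closed field, an image of a reduced affine algebraic group is affine. -/
theorem isAffine_of_isReduced [IsAlgClosed k] {A : Type u} [CommRing A] [HopfAlgebra k A] [Algebra.FiniteType k A]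
    [_root_.IsReduced A] {Q : Over (Spec (CommRingCat.of k))} [GrpObj Q] [LocallyOfFiniteType Q.hom]
    (f : specOf k A ⟶ Q) [IsMonHom f] [Surjective f.left] : IsAffine Q.left := by
  haveI : QuasiCompact Q.hom := by
    haveI : QuasiCompact (specOf k A).hom :=
      inferInstanceAs (QuasiCompact (Spec.map (CommRingCat.ofHom (algebraMap k A))))
    haveI : QuasiCompact (f.left ≫ Q.hom) := by rw [Over.w f]; infer_instance
    exact quasiCompact_of_surjective f.left Q.hom
  haveI : QuasiCompact (specOf k A).hom :=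
    inferInstanceAs (QuasiCompact (Spec.map (CommRingCat.ofHom (algebraMap k A))))
  haveI : LocallyOfFiniteType (specOf k A).hom :=
    locallyOfFiniteType_specOverSpec (R := CommRingCat.of k) (A := CommRingCat.of A)
  obtain ⟨N, gN, j, _, _, -, sqN⟩ := AbelianGrp.exists_kernel f
  haveI : Mono j := Over.mono_of_mono_left j
  obtain ⟨I, _, hI⟩ := exists_hopfIdeal j
  have hkj : j ≫ f = 1 := sqN.w.trans (Hom.one_def).symm
  have hker : ∀ {T : Over (Spec (CommRingCat.of k))} (a : T ⟶ specOf k A), a ≫ f = 1 → ∃ z : T ⟶ N, z ≫ j = a := by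
    intro T a ha
    obtain ⟨z, hz, -⟩ := sqN.exists_lift a (toUnit _) (by rw [ha, Hom.one_def])
    exact ⟨z, hz⟩
  have hinv : ∀ {R : Type u} [CommRing R] [Algebra k R] (g : WithConv (A →ₐ[k] R)),
      Spec.mapMulEquiv (pinv g) = (Spec.mapMulEquiv g)⁻¹ := fun g =>
    (inv_eq_of_mul_eq_one_left (((map_mul _ _ _).symm.trans (congrArg _ (pinv_mul g))).trans (map_one _))).symm
  obtain ⟨B, hBfg, hB, hBker⟩ := exists_hopfSubalgebra_kernel I fun R _ _ g n hn => by
    refine (hI R (pinv g * n * g)).1 (hker _ ?_)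
    obtain ⟨z, hz⟩ := (hI R n).2 hn
    rw [map_mul, map_mul, hinv, MonObj.mul_comp, MonObj.mul_comp, GrpObj.inv_comp, ← hz, Category.assoc, hkj,
      MonObj.comp_one, _root_.mul_one, inv_mul_cancel]
  letI := Groth.L25.HopfSub.hopfAlgebra hB
  haveI : Algebra.FiniteType k B := B.fg_iff_finiteType.1 hBfg
  haveI : Module.FaithfullyFlat B A := Groth.L25.HopfFlat.faithfullyFlat B hB
  let ιB : B →ₐc[k] A := Groth.L25.HopfSub.inclBialg hB
  let φG := (hopfSpec (CommRingCat.of k)).map (CommHopfAlgCat.ofHom ιB).op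
  let φ : specOf k A ⟶ specOf k B := φG.hom.hom
  haveI : IsMonHom φ := φG.hom.isMonHom_hom
  have hφl : φ.left = Spec.map (CommRingCat.ofHom (algebraMap B A)) := rfl
  have hff : (algebraMap B A).FaithfullyFlat := by
    rw [RingHom.faithfullyFlat_algebraMap_iff]; infer_instance
  haveI : LocallyOfFiniteType (specOf k B).hom :=
    locallyOfFiniteType_specOverSpec (R := CommRingCat.of k) (A := CommRingCat.of B)
  haveI : QuasiCompact (specOf k B).hom :=
    inferInstanceAs (QuasiCompact (Spec.map (CommRingCat.ofHom (algebraMap k B))))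
  have hfl : Flat (Spec.map (CommRingCat.ofHom (algebraMap B A))) := by
    rw [HasRingHomProperty.Spec_iff (P := @Flat), CommRingCat.hom_ofHom, RingHom.flat_algebraMap_iff]
    infer_instance
  haveI : Flat φ.left := hfl
  haveI : Surjective φ.left := by
    rw [hφl]
    exact ⟨PrimeSpectrum.comap_surjective_of_faithfullyFlat⟩
  haveI : IsLocallyNoetherian (specOf k B).left := LocallyOfFiniteType.isLocallyNoetherian (specOf k B).hom
  haveI : LocallyOfFinitePresentation φ.left := by
    haveI : LocallyOfFiniteType (φ.left ≫ (specOf k B).hom) := by rw [Over.w φ]; infer_instance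
    haveI : LocallyOfFiniteType φ.left := locallyOfFiniteType_of_comp φ.left (specOf k B).hom
    exact LocallyOfFinitePresentation.iff_locallyOfFiniteType.2 inferInstance
  have hpt : ∀ {R : Type u} [CommRing R] [Algebra k R] (g : WithConv (A →ₐ[k] R)),
      Spec.mapMulEquiv g ≫ φ = 1 ↔ ∀ b ∈ B, g.ofConv b = algebraMap k R (Coalgebra.counit (R := k) b) := by
    intro R _ _ g
    have e : Spec.mapMulEquiv g ≫ φ = Spec.mapMulEquiv (toConv (g.ofConv.comp B.val)) := by
      refine Over.OverMorphism.ext ?_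
      rw [Over.comp_left, hφl]
      exact (Spec.map_comp _ _).symm
    rw [e, EmbeddingLike.map_eq_one_iff]
    constructor
    · intro h b hb
      exact (DFunLike.congr_fun (congrArg WithConv.ofConv h) ⟨b, hb⟩).trans (AlgHom.convOne_apply _)
    · intro h
      refine WithConv.ext (AlgHom.ext fun b => ?_)
      exact (h _ b.2).trans (AlgHom.convOne_apply _).symm
  have hNφ : j ≫ φ = 1 := by
    refine hom_ext_affine _ _ fun R _ _ t => ?_
    obtain ⟨g, hg⟩ := (Spec.mapMulEquiv (R := k) (S := A) (T := R)).surjective (t ≫ j)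
    rw [← Category.assoc, ← hg, MonObj.comp_one, hpt, hBker]
    exact (hI R g).1 ⟨t, hg.symm⟩
  have sqφ : AlgGrp.IsKernel j φ := by
    refine IsPullback.mk' (hNφ.trans Hom.one_def) (fun T a b e _ => (cancel_mono j).1 e) (fun T a b e => ?_)
    haveI : Mono j.left := inferInstance
    obtain ⟨z, hz⟩ := exists_lift_of_cover_mono j a fun R _ _ t => by
      obtain ⟨g, hg⟩ := (Spec.mapMulEquiv (R := k) (S := A) (T := R)).surjective (t ≫ a)
      rw [← hg, hI R g, ← hBker, ← hpt, hg, Category.assoc, e, ← Category.assoc,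
        toUnit_unique (t ≫ b) (toUnit _), ← Hom.one_def]
    exact ⟨z, hz, toUnit_unique _ _⟩
  obtain ⟨ψ, _, hψ, -⟩ := Groth.Agent.S3280.result k (specOf k A) N (specOf k B) Q φ j sqφ f
    (hkj.trans Hom.one_def)
  haveI : Mono ψ := mono_of_desc φ ψ j hNφ fun a ha => hker a (by rwa [hψ] at ha)
  haveI := AbelianGrp.quasiCompact_left ψ
  haveI : IsClosedImmersion ψ.left := MonoClosed.isClosedImmersion_of_field ψ
  haveI : IsAffine (specOf k B).left := inferInstanceAs (IsAffine (Spec (CommRingCat.of B)))
  refine Groth.L20.ThickAffine.isAffine_of_surjective ψ.left fun q => ?_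
  obtain ⟨x, hx⟩ := f.left.surjective q
  exact ⟨φ.left x, by rw [← Scheme.Hom.comp_apply, ← Over.comp_left, hψ, hx]⟩

/-- An image of an affine algebraic group is affine. -/
theorem isAffine_of_surjective_hom {G Q : Over (Spec (CommRingCat.of k))} [GrpObj G] [GrpObj Q] [IsAffine G.left]
    [LocallyOfFiniteType G.hom] [LocallyOfFiniteType Q.hom] (f : G ⟶ Q) [IsMonHom f] [Surjective f.left] :
    IsAffine Q.left := by
  haveI : QuasiCompact Q.hom := by
    haveI : QuasiCompact (f.left ≫ Q.hom) := by rw [Over.w f]; infer_instance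
    exact quasiCompact_of_surjective f.left Q.hom
  let K := AlgebraicClosure k
  let θ : Spec (CommRingCat.of K) ⟶ Spec (CommRingCat.of k) :=
    Spec.map (CommRingCat.ofHom (algebraMap k K))
  haveI : IsIntegralHom θ := IsIntegralHom.SpecMap_iff.2 (algebraMap_isIntegral_iff.2 inferInstance)
  haveI : Surjective θ := ⟨fun x => ⟨IsLocalRing.closedPoint _, Subsingleton.elim (α := PrimeSpectrum k) _ _⟩⟩
  have hflat : Flat θ := inferInstance
  let G' : Over (Spec (CommRingCat.of K)) := Red.bc θ G
  let Q' : Over (Spec (CommRingCat.of K)) := Red.bc θ Q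
  haveI : LocallyOfFiniteType G'.hom := MorphismProperty.pullback_snd (P := @LocallyOfFiniteType) _ _ ‹_›
  haveI : LocallyOfFiniteType Q'.hom := MorphismProperty.pullback_snd (P := @LocallyOfFiniteType) _ _ ‹_›
  let f' : G' ⟶ Q' := (Over.pullback θ).map f
  haveI : IsMonHom f' := inferInstanceAs (IsMonHom ((Over.pullback θ).map f))
  haveI : Surjective f'.left := by
    have hsq : f'.left ≫ pullback.fst Q.hom θ = pullback.fst G.hom θ ≫ f.left := pullback.lift_fst _ _ _
    have hw : f'.left ≫ pullback.snd Q.hom θ = pullback.snd G.hom θ := pullback.lift_snd _ _ _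
    have sq : IsPullback f'.left (pullback.fst G.hom θ) (pullback.fst Q.hom θ) f.left :=
      IsPullback.of_right (by rw [hw, Over.w f]; exact (IsPullback.of_hasPullback G.hom θ).flip) hsq
        (IsPullback.of_hasPullback Q.hom θ).flip
    exact MorphismProperty.of_isPullback (P := @Surjective) sq.flip ‹_›
  haveI : IsAffine G'.left := inferInstanceAs (IsAffine (pullback G.hom θ))
  obtain ⟨Gr, gGr, r, _, hred, _, hrange⟩ := MonoClosed.exists_reduced_subgroup (G := G') Set.univ isClosed_univ
    trivial (fun _ _ _ => trivial) (fun _ _ => trivial)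
  haveI : Surjective r.left := ⟨Set.range_eq_univ.1 hrange⟩
  haveI : IsAffine Gr.left := isAffine_of_isAffineHom r.left
  haveI : LocallyOfFiniteType Gr.hom := by rw [← Over.w r]; infer_instance
  obtain ⟨H₀, ⟨eG⟩⟩ := (essImage_hopfSpec (G := Grp.mk Gr)).mpr ‹IsAffine Gr.left›
  let A := H₀.unop
  let φ : specOf K A ⟶ Gr := eG.hom.hom.hom
  let ψ : Gr ⟶ specOf K A := eG.inv.hom.hom
  have h1 : φ ≫ ψ = 𝟙 _ := congrArg (fun f => f.hom.hom) eG.hom_inv_id
  have h2 : ψ ≫ φ = 𝟙 Gr := congrArg (fun f => f.hom.hom) eG.inv_hom_id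
  haveI : IsMonHom φ := eG.hom.hom.isMonHom_hom
  haveI : IsIso φ := ⟨ψ, h1, h2⟩
  haveI : IsIso φ.left := inferInstanceAs (IsIso ((Over.forget _).map φ))
  haveI hft : LocallyOfFiniteType (specOf K A).hom := by rw [← Over.w φ]; infer_instance
  haveI : Algebra.FiniteType K A := by
    change LocallyOfFiniteType (Spec.map (CommRingCat.ofHom (algebraMap K A))) at hft
    rwa [HasRingHomProperty.Spec_iff (P := @LocallyOfFiniteType), CommRingCat.hom_ofHom,
      RingHom.finiteType_algebraMap] at hft
  haveI : _root_.IsReduced A := by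
    haveI : IsReduced (specOf K A).left := isReduced_of_isOpenImmersion φ.left
    exact (affine_isReduced_iff (CommRingCat.of A)).1 this
  let g : specOf K A ⟶ Q' := φ ≫ r ≫ f'
  haveI : IsMonHom g := inferInstanceAs (IsMonHom (φ ≫ r ≫ f'))
  haveI : Surjective g.left := inferInstanceAs (Surjective (φ.left ≫ r.left ≫ f'.left))
  haveI : IsAffine Q'.left := isAffine_of_isReduced g
  haveI : IsAffineHom Q'.hom := inferInstance
  haveI : IsAffineHom Q.hom :=
    MorphismProperty.of_pullback_snd_of_descendsAlong (P := @IsAffineHom)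
      (Q := @Surjective ⊓ @Flat ⊓ @QuasiCompact) (f := Q.hom) (g := θ)
      ⟨⟨inferInstance, hflat⟩, inferInstance⟩ (inferInstanceAs (IsAffineHom Q'.hom))
  exact isAffine_of_isAffineHom Q.hom

end Groth.L08.NormalQuot
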