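import Groth.Agent.L08.Chevalley
import Groth.Agent.L08.Points
import Groth.Agent.L08.HomSpace.Orbit
import Groth.Agent.L25.HopfSub
import Groth.Agent.L08.Cube.NP.UnitsProd
import Mathlib.LinearAlgebra.Basis.VectorSpace

/-!
# A normal Hopf ideal is cut out by a finitely generated Hopf subalgebra (reduced, algebraically closed case)
-/

set_option autoImplicit false

universe u

open TensorProduct WithConv

noncomputable section

namespace Groth.L08.NormalQuot

variable {k : Type u} [Field k] {A : Type u} [CommRing A] [HopfAlgebra k A]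

theorem convMul_incl (x : A) :
    ((toConv (Algebra.TensorProduct.includeLeft : A →ₐ[k] A ⊗[k] A) *
      toConv (Algebra.TensorProduct.includeRight : A →ₐ[k] A ⊗[k] A)).ofConv x) = Coalgebra.comul (R := k) x := by
  refine (AlgHom.convMul_apply _ _ _).trans ?_
  induction (Coalgebra.comul (R := k) x) with
  | zero => simp
  | tmul a b => simp
  | add a b ha hb => simp only [map_add, ha, hb]

theorem pinv_apply {R : Type u} [CommRing R] [Algebra k R] (g : WithConv (A →ₐ[k] R)) (x : A) :
    (pinv g).ofConv x = g.ofConv (HopfAlgebraStruct.antipode k x) := rfl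

/-- A comatrix generates a finitely generated Hopf subalgebra whose kernel is the locus where it is trivial. -/
theorem exists_hopfSubalgebra_of_comatrix {P : Type} [Fintype P] [DecidableEq P] (c : P → P → A)
    (hmul : ∀ (R : Type u) [CommRing R] [Algebra k R] (g h : WithConv (A →ₐ[k] R)) (i j : P),
      (g * h).ofConv (c i j) = ∑ l, g.ofConv (c i l) * h.ofConv (c l j))
    (hone : ∀ i j : P, Coalgebra.counit (R := k) (c i j) = if i = j then 1 else 0) :
    ∃ B : Subalgebra k A, B.FG ∧ SGA3.IsHopfSubalgebra k A B ∧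
      ∀ (R : Type u) [CommRing R] [Algebra k R] (g : WithConv (A →ₐ[k] R)),
        (∀ b ∈ B, g.ofConv b = algebraMap k R (Coalgebra.counit (R := k) b)) ↔
          ∀ i j, g.ofConv (c i j) = if i = j then 1 else 0 := by
  classical
  let S : A →ₐ[k] A := HopfAlgebra.antipodeAlgHom k A
  let t : Set A := Set.range fun p : P × P => c p.1 p.2
  let B : Subalgebra k A := Algebra.adjoin k (t ∪ S '' t)
  have hcB : ∀ i j, c i j ∈ B := fun i j => Algebra.subset_adjoin (Or.inl ⟨(i, j), rfl⟩)
  have hSS : ∀ a, S (S a) = a := fun a => Groth.L08.antipode_antipode_apply a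
  have hSB : ∀ b ∈ B, S b ∈ B := by
    intro b hb
    have h : B.map S ≤ B := by
      rw [AlgHom.map_adjoin]
      refine Algebra.adjoin_le ?_
      rintro _ ⟨y, hy | ⟨z, hz, rfl⟩, rfl⟩
      · exact Algebra.subset_adjoin (Or.inr ⟨y, hy, rfl⟩)
      · rw [hSS]
        exact Algebra.subset_adjoin (Or.inl hz)
    exact h ⟨b, hb, rfl⟩
  have hΔ : ∀ i j, Coalgebra.comul (R := k) (c i j) = ∑ l, c i l ⊗ₜ[k] c l j := fun i j => by
    rw [← convMul_incl, hmul]
    simp
  let D : Subalgebra k A := (Groth.L25.HopfSub.j B).range.comap (Bialgebra.comulAlgHom k A)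
  have hBD : B ≤ D := by
    refine Algebra.adjoin_le ?_
    rintro y (⟨⟨i, j⟩, rfl⟩ | ⟨z, ⟨⟨i, j⟩, rfl⟩, rfl⟩)
    · exact ⟨∑ l, (⟨c i l, hcB i l⟩ : B) ⊗ₜ[k] (⟨c l j, hcB l j⟩ : B), by
        show Groth.L25.HopfSub.j B _ = Coalgebra.comul (R := k) (c i j)
        rw [hΔ, map_sum]
        rfl⟩
    · refine ⟨∑ l, (⟨S (c l j), hSB _ (hcB l j)⟩ : B) ⊗ₜ[k] (⟨S (c i l), hSB _ (hcB i l)⟩ : B), ?_⟩
      show Groth.L25.HopfSub.j B _ = Coalgebra.comul (R := k) (HopfAlgebraStruct.antipode k (c i j))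
      rw [Groth.L08.comul_antipode, hΔ]
      simp only [map_sum]
      rfl
  refine ⟨B, Subalgebra.fg_def.2 ⟨_, (Set.finite_range _).union ((Set.finite_range _).image S), rfl⟩,
    ⟨fun b hb => ?_, fun b hb => hSB b hb⟩, fun R _ _ g => ⟨fun h i j => ?_, fun h b hb => ?_⟩⟩
  · obtain ⟨z, hz⟩ := hBD hb
    exact ⟨z, hz⟩
  · rw [h _ (hcB i j), hone]
    split <;> simp
  · have hg : g.ofConv.comp B.val = ((Algebra.ofId k R).comp (Bialgebra.counitAlgHom k A)).comp B.val := by
      have h1 : (pinv g * g).ofConv = (1 : WithConv (A →ₐ[k] R)).ofConv := by rw [pinv_mul]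
      have hS : ∀ i j, g.ofConv (S (c i j)) = if i = j then 1 else 0 := by
        intro i j
        have h2 := DFunLike.congr_fun h1 (c i j)
        rw [hmul, AlgHom.convOne_apply, hone] at h2
        simp only [h, pinv_apply, mul_ite, _root_.mul_one, mul_zero, Finset.sum_ite_eq', Finset.mem_univ,
          if_true] at h2
        rw [show S (c i j) = HopfAlgebraStruct.antipode k (c i j) from rfl, h2]
        split <;> simp
      refine AlgHom.ext fun b => ?_
      suffices hle : B ≤ AlgHom.equalizer g.ofConv ((Algebra.ofId k R).comp (Bialgebra.counitAlgHom k A)) from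
        hle b.2
      refine Algebra.adjoin_le ?_
      rintro y (⟨⟨i, j⟩, rfl⟩ | ⟨z, ⟨⟨i, j⟩, rfl⟩, rfl⟩)
      · show g.ofConv (c i j) = algebraMap k R (Coalgebra.counit (R := k) (c i j))
        rw [h, hone]
        split <;> simp
      · show g.ofConv (S (c i j)) = algebraMap k R (Coalgebra.counit (R := k) (HopfAlgebraStruct.antipode k (c i j)))
        rw [hS, HopfAlgebra.counit_antipode, hone]
        split <;> simp
    exact DFunLike.congr_fun hg ⟨b, hb⟩

/-- The block of the translates of a line stabilized by a normal subgroup. -/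
theorem exists_block [IsAlgClosed k] [Algebra.FiniteType k A] [IsReduced A] (I : Ideal A) [I.IsHopfIdeal k]
    (hN : ∀ (R : Type u) [CommRing R] [Algebra k R] (g n : WithConv (A →ₐ[k] R)),
      (∀ x ∈ I, n.ofConv x = 0) → ∀ x ∈ I, (pinv g * n * g).ofConv x = 0) :
    ∃ (τ : Type) (_ : Fintype τ) (a : τ → τ → A) (i₀ : τ),
      (∀ (R : Type u) [CommRing R] [Algebra k R] (g h : WithConv (A →ₐ[k] R)) (i j : τ),
        (g * h).ofConv (a i j) = ∑ l, g.ofConv (a i l) * h.ofConv (a l j)) ∧
      (∀ i, Coalgebra.counit (R := k) (a i i) = 1) ∧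
      (∀ i j, i ≠ j → Coalgebra.counit (R := k) (a i j) = 0) ∧
      (∀ i j, i ≠ j → a i j ∈ I) ∧
      ∀ (R : Type u) [CommRing R] [Algebra k R] (g : WithConv (A →ₐ[k] R)),
        (∀ i, i ≠ i₀ → g.ofConv (a i i₀) = 0) → ∀ x ∈ I, g.ofConv x = 0 := by
  classical
  obtain ⟨V, _, _, _, _, v, hv, hrep⟩ := Chevalley.exists_line (k := k) I
  let u : WithConv (A →ₐ[k] k) → V := fun g => TensorProduct.lid k V (ptHom V k g (1 ⊗ₜ v))
  have hu : ∀ g, ptHom V k g (1 ⊗ₜ v) = 1 ⊗ₜ u g := fun g => by
    apply (TensorProduct.lid k V).injective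
    simp [u]
  have hv1 : v = u 1 := by simp [u]
  let S : Set V := Set.range u
  have hli : LinearIndepOn k id ({v} : Set V) := LinearIndepOn.singleton hv
  have hsub : ({v} : Set V) ⊆ S := Set.singleton_subset_iff.2 ⟨1, hv1.symm⟩
  let T : Set V := hli.extend hsub
  have hT : LinearIndepOn k id T := hli.linearIndepOn_extend hsub
  let b₀ := Module.Basis.extend hT
  haveI : Fintype (hT.extend (Set.subset_univ T)) := FiniteDimensional.fintypeBasisIndex b₀
  let e := Fintype.equivFin (hT.extend (Set.subset_univ T))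
  let b := b₀.reindex e
  let p : Fin (Fintype.card (hT.extend (Set.subset_univ T))) → Prop := fun i => b i ∈ T
  have hbT : ∀ i, b i = ((e.symm i : hT.extend (Set.subset_univ T)) : V) := fun i => by simp [b, b₀]
  have hpS : ∀ i, p i → ∃ g, u g = b i := fun i hi => hli.extend_subset hsub hi
  obtain ⟨i₀, hi₀⟩ : ∃ i, b i = v :=
    ⟨e ⟨v, hT.subset_extend _ (hli.subset_extend hsub rfl)⟩, by simp [hbT]⟩
  have hpi₀ : p i₀ := show b i₀ ∈ T from hi₀.symm ▸ hli.subset_extend hsub rfl
  have hS : ∀ x ∈ S, ∀ i, ¬ p i → b.repr x i = 0 := by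
    intro x hx i hi
    have h1 : x ∈ Submodule.span k (b '' {j | p j}) := by
      have h2 : T ⊆ b '' {j | p j} := fun y hy =>
        ⟨e ⟨y, hT.subset_extend _ hy⟩, by simp [p, hbT, hy], by simp [hbT]⟩
      exact Submodule.span_mono h2 (hli.subset_span_extend hsub hx)
    by_contra h3
    exact hi ((Module.Basis.repr_support_subset_of_mem_span b {j | p j} h1) (Finsupp.mem_support_iff.2 h3))
  let a₀ : Fin (Fintype.card (hT.extend (Set.subset_univ T))) →
      Fin (Fintype.card (hT.extend (Set.subset_univ T))) → A := fun i j => HomSpace.coords A b (b j) i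
  have hmul₀ : ∀ (R : Type u) [CommRing R] [Algebra k R] (g h : WithConv (A →ₐ[k] R)) (i j),
      (g * h).ofConv (a₀ i j) = ∑ l, g.ofConv (a₀ i l) * h.ofConv (a₀ l j) := by
    intro R _ _ g h i j
    rw [← HomSpace.repr_translate, map_mul, Module.End.mul_apply,
      ← (b.baseChange R).sum_repr (ptHom V R h (1 ⊗ₜ b j)), map_sum, map_sum, Finsupp.finsetSum_apply]
    refine Finset.sum_congr rfl fun l _ => ?_
    rw [map_smul, map_smul, Finsupp.smul_apply, HomSpace.repr_translate, Module.Basis.baseChange_apply,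
      HomSpace.repr_translate, smul_eq_mul, mul_comm]
  have hone₀ : ∀ i j, Coalgebra.counit (R := k) (a₀ i j) = if i = j then 1 else 0 := fun i j => by
    have h := HomSpace.repr_translate b (b j) (1 : WithConv (A →ₐ[k] k)) i
    rw [map_one, Module.End.one_apply, HomSpace.repr_one_tmul, AlgHom.convOne_apply] at h
    simp only [Algebra.algebraMap_self_apply, Module.Basis.repr_self, Finsupp.single_apply] at h
    exact h.symm.trans (by simp [eq_comm])
  -- translates of the distinguished vectors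
  have htr : ∀ (g : WithConv (A →ₐ[k] k)) j, p j → ∃ h, ptHom V k g (1 ⊗ₜ b j) = 1 ⊗ₜ u h := by
    intro g j hj
    obtain ⟨gj, hgj⟩ := hpS j hj
    exact ⟨g * gj, by rw [← hgj, ← hu, ← hu, map_mul, Module.End.mul_apply]⟩
  have hzero : ∀ i j, ¬ p i → p j → a₀ i j = 0 := by
    intro i j hi hj
    refine Cube.NP.eq_zero_of_forall_point (k := k) fun χ => ?_
    obtain ⟨h, hh⟩ := htr (toConv χ) j hj
    have e1 := HomSpace.repr_translate b (b j) (toConv χ) i
    rw [hh, HomSpace.repr_one_tmul, hS _ ⟨h, rfl⟩ i hi, map_zero] at e1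
    exact e1.symm
  refine ⟨{i // p i}, inferInstance, fun i j => a₀ i j, ⟨i₀, hpi₀⟩, fun R _ _ g h i j => ?_,
    fun i => (hone₀ _ _).trans (if_pos rfl), fun i j hij => (hone₀ _ _).trans (if_neg fun h => hij (Subtype.ext h)),
    fun i j hij => ?_, fun R _ _ g hg => ?_⟩
  · rw [hmul₀, ← Finset.sum_subtype (Finset.univ.filter p) (by simp) fun l => g.ofConv (a₀ i l) * h.ofConv (a₀ l j)]
    exact (Finset.sum_subset (Finset.subset_univ _) fun l _ hl => by
      rw [hzero l j (by simpa using hl) j.2, map_zero, mul_zero]).symm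
  · -- the distinguished vectors are eigenvectors of the subgroup
    obtain ⟨gj, hgj⟩ := hpS j j.2
    let n : WithConv (A →ₐ[k] A ⧸ I) := toConv (Ideal.Quotient.mkₐ k I)
    have hn : ∀ x ∈ I, n.ofConv x = 0 := fun x hx => Ideal.Quotient.eq_zero_iff_mem.2 hx
    let G : WithConv (A →ₐ[k] A ⧸ I) := HomSpace.post (Algebra.ofId k (A ⧸ I)) gj
    have hG : ptHom V (A ⧸ I) G (1 ⊗ₜ v) = 1 ⊗ₜ b j := by
      refine (b.baseChange (A ⧸ I)).repr.injective (Finsupp.ext fun l => ?_)
      have e1 := HomSpace.repr_translate b v gj l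
      rw [hu, hgj, HomSpace.repr_one_tmul] at e1
      rw [HomSpace.repr_translate, HomSpace.repr_one_tmul]
      show algebraMap k (A ⧸ I) (gj.ofConv _) = _
      rw [← e1]
      simp
    obtain ⟨c, hc⟩ := (HomSpace.stabilizesLine_iff v (pinv G * n * G)).1
      ((hrep (A ⧸ I) (pinv G * n * G).ofConv).1 (hN _ G n hn))
    have hstab : ptHom V (A ⧸ I) n (1 ⊗ₜ b j) = c • (1 ⊗ₜ b j) := by
      rw [← hG, ← Module.End.mul_apply, ← map_mul, ← mul_conj G n, map_mul, Module.End.mul_apply, hc, map_smul]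
    rw [← Ideal.Quotient.eq_zero_iff_mem]
    show n.ofConv (a₀ i j) = 0
    rw [← HomSpace.repr_translate, hstab, map_smul, Finsupp.smul_apply, HomSpace.repr_one_tmul,
      Module.Basis.repr_self, Finsupp.single_eq_of_ne (fun h => hij (Subtype.ext h)), map_zero, smul_zero]
  · intro x hx
    refine (hrep R g.ofConv).2 ((HomSpace.stabilizesLine_iff v g).2 ⟨g.ofConv (a₀ i₀ i₀), ?_⟩) x hx
    refine (b.baseChange R).repr.injective (Finsupp.ext fun l => ?_)
    rw [map_smul, Finsupp.smul_apply, HomSpace.repr_one_tmul, ← hi₀, HomSpace.repr_translate,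
      Module.Basis.repr_self, smul_eq_mul]
    by_cases hl : l = i₀
    · subst hl
      simp [a₀]
    · rw [Finsupp.single_eq_of_ne hl, map_zero, mul_zero]
      by_cases hp : p l
      · exact hg ⟨l, hp⟩ fun h => hl (congrArg Subtype.val h)
      · show g.ofConv (a₀ l i₀) = 0
        rw [hzero l i₀ hp hpi₀, map_zero]

/-- Over an algebraically closed field, a normal Hopf ideal of a reduced Hopf algebra of finite type is cut
out by a finitely generated Hopf subalgebra. -/
theorem exists_hopfSubalgebra_kernel [IsAlgClosed k] [Algebra.FiniteType k A] [IsReduced A] (I : Ideal A)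
    [I.IsHopfIdeal k]
    (hN : ∀ (R : Type u) [CommRing R] [Algebra k R] (g n : WithConv (A →ₐ[k] R)),
      (∀ x ∈ I, n.ofConv x = 0) → ∀ x ∈ I, (pinv g * n * g).ofConv x = 0) :
    ∃ B : Subalgebra k A, B.FG ∧ SGA3.IsHopfSubalgebra k A B ∧
      ∀ (R : Type u) [CommRing R] [Algebra k R] (g : WithConv (A →ₐ[k] R)),
        (∀ b ∈ B, g.ofConv b = algebraMap k R (Coalgebra.counit (R := k) b)) ↔ ∀ x ∈ I, g.ofConv x = 0 := by
  classical
  obtain ⟨τ, _, a, i₀, hmul, hd, ho, hI, hst⟩ := exists_block I hN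
  let P := {q : τ × τ // a q.1 q.1 - a q.2 q.2 ∈ I}
  let c : P → P → A := fun p q => a p.1.1 q.1.1 * HopfAlgebraStruct.antipode k (a q.1.2 p.1.2)
  have hval : ∀ {R : Type u} [CommRing R] [Algebra k R] (g : WithConv (A →ₐ[k] R)) (p q : P),
      g.ofConv (c p q) = g.ofConv (a p.1.1 q.1.1) * (pinv g).ofConv (a q.1.2 p.1.2) := fun g p q => by
    rw [pinv_apply, ← map_mul]
  -- weights only move along the action
  have hclos : ∀ x y i j, a i i - a j j ∈ I → a x x - a y y ∉ I →
      a x i * HopfAlgebraStruct.antipode k (a j y) = 0 := by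
    intro x y i j hij hxy
    refine Cube.NP.eq_zero_of_forall_point (k := k) fun χ => ?_
    by_contra hne
    rw [map_mul, ← pinv_apply (k := k) (toConv χ)] at hne
    let g : WithConv (A →ₐ[k] k) := toConv χ
    let n : WithConv (A →ₐ[k] A ⧸ I) := toConv (Ideal.Quotient.mkₐ k I)
    have hn : ∀ z ∈ I, n.ofConv z = 0 := fun z hz => Ideal.Quotient.eq_zero_iff_mem.2 hz
    let G : WithConv (A →ₐ[k] A ⧸ I) := HomSpace.post (Algebra.ofId k (A ⧸ I)) g
    let m := pinv G * n * G
    have hm : ∀ z ∈ I, m.ofConv z = 0 := hN _ G n hn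
    have diag : ∀ (w : WithConv (A →ₐ[k] A ⧸ I)), (∀ z ∈ I, w.ofConv z = 0) →
        ∀ (h : WithConv (A →ₐ[k] A ⧸ I)) r s, (w * h).ofConv (a r s) = w.ofConv (a r r) * h.ofConv (a r s) ∧
          (h * w).ofConv (a r s) = h.ofConv (a r s) * w.ofConv (a s s) := fun w hw h r s => by
      constructor
      · rw [hmul, Finset.sum_eq_single r (fun l _ hl => by rw [hw _ (hI _ _ (Ne.symm hl)), zero_mul]) (by simp)]
      · rw [hmul, Finset.sum_eq_single s (fun l _ hl => by rw [hw _ (hI _ _ hl), mul_zero]) (by simp)]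
    have e1 : n * G = G * m := (mul_conj G n).symm
    have e2 : m * pinv G = pinv G * n := by
      simp only [m, _root_.mul_assoc, mul_pinv, _root_.mul_one]
    have h1 := congrArg (fun w => w.ofConv (a x i)) e1
    have h2 := congrArg (fun w => w.ofConv (a j y)) e2
    simp only [(diag n hn G x i).1, (diag m hm G x i).2, (diag m hm (pinv G) j y).1,
      (diag n hn (pinv G) j y).2] at h1 h2
    have u1 : IsUnit (G.ofConv (a x i)) :=
      (isUnit_iff_ne_zero.2 (left_ne_zero_of_mul hne)).map (algebraMap k (A ⧸ I))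
    have u2 : IsUnit ((pinv G).ofConv (a j y)) :=
      (isUnit_iff_ne_zero.2 (right_ne_zero_of_mul hne)).map (algebraMap k (A ⧸ I))
    rw [mul_comm (G.ofConv _), u1.mul_left_inj] at h1
    rw [mul_comm ((pinv G).ofConv _), u2.mul_left_inj] at h2
    apply hxy
    rw [← Ideal.Quotient.eq_zero_iff_mem]
    show n.ofConv (a x x - a y y) = 0
    rw [map_sub, h1, ← h2, ← map_sub, hm _ hij]
  have hcmul : ∀ (R : Type u) [CommRing R] [Algebra k R] (g h : WithConv (A →ₐ[k] R)) (p q : P),
      (g * h).ofConv (c p q) = ∑ l, g.ofConv (c p l) * h.ofConv (c l q) := by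
      intro R _ _ g h p q
      have hpinv : pinv (g * h) = pinv h * pinv g :=
        left_inv_eq_right_inv (pinv_mul (g * h)) (by
          rw [_root_.mul_assoc, ← _root_.mul_assoc h, mul_pinv h, _root_.one_mul, mul_pinv g])
      let F : τ × τ → R := fun lm => (g.ofConv (a p.1.1 lm.1) * (pinv g).ofConv (a lm.2 p.1.2)) *
        (h.ofConv (a lm.1 q.1.1) * (pinv h).ofConv (a q.1.2 lm.2))
      calc (g * h).ofConv (c p q) = ∑ lm, F lm := by
            rw [hval, hpinv, hmul, hmul, Finset.sum_mul_sum, ← Finset.univ_product_univ, Finset.sum_product]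
            refine Finset.sum_congr rfl fun l _ => Finset.sum_congr rfl fun m _ => ?_
            simp only [F]
            ring
        _ = ∑ lm ∈ Finset.univ.filter (fun lm : τ × τ => a lm.1 lm.1 - a lm.2 lm.2 ∈ I), F lm := by
            refine (Finset.sum_subset (Finset.subset_univ _) fun lm _ hlm => ?_).symm
            have hz := congrArg h.ofConv (hclos lm.1 lm.2 q.1.1 q.1.2 q.2 (by simpa using hlm))
            rw [map_mul, map_zero, ← pinv_apply] at hz
            simp only [F]
            rw [hz, mul_zero]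
        _ = ∑ r : P, F r.1 := Finset.sum_subtype _ (by simp) _
        _ = _ := Finset.sum_congr rfl fun r _ => by rw [hval, hval]
  have hcone : ∀ p q : P, Coalgebra.counit (R := k) (c p q) = if p = q then 1 else 0 := by
      intro p q
      simp only [c, Bialgebra.counit_mul, HopfAlgebra.counit_antipode]
      by_cases h : p = q
      · subst h
        rw [if_pos rfl, hd, hd, _root_.one_mul]
      · rw [if_neg h]
        by_cases h1 : p.1.1 = q.1.1
        · rw [ho q.1.2 p.1.2 fun h2 => h (Subtype.ext (Prod.ext h1 h2.symm)), mul_zero]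
        · rw [ho _ _ h1, zero_mul]
  obtain ⟨B, hB1, hB2, hB3⟩ := exists_hopfSubalgebra_of_comatrix (P := P) c hcmul hcone
  refine ⟨B, hB1, hB2, fun R _ _ g => (hB3 R g).trans ⟨fun h => hst R g fun i hi => ?_, fun h p q => ?_⟩⟩
  · have hP : ∀ i, a i i - a i i ∈ I := fun i => by simp
    have h00 := h ⟨(i₀, i₀), hP _⟩ ⟨(i₀, i₀), hP _⟩
    rw [if_pos rfl, hval] at h00
    by_cases hii : a i i - a i₀ i₀ ∈ I
    · have h1 := h ⟨(i, i₀), hii⟩ ⟨(i₀, i₀), hP _⟩
      rw [if_neg (fun e => hi (congrArg (fun z : P => z.1.1) e)), hval] at h1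
      exact ((IsUnit.of_mul_eq_one_right _ h00).mul_left_eq_zero).1 h1
    · have h1 := congrArg g.ofConv (hclos i i₀ i₀ i₀ (hP _) hii)
      rw [map_mul, map_zero, ← pinv_apply] at h1
      exact ((IsUnit.of_mul_eq_one_right _ h00).mul_left_eq_zero).1 h1
  · have hdiag : ∀ r s, r ≠ s → g.ofConv (a r s) = 0 ∧ (pinv g).ofConv (a r s) = 0 := fun r s hrs =>
      ⟨h _ (hI r s hrs), h _ (Ideal.IsHopfIdeal.antipode_mem (R := k) (hI r s hrs))⟩
    rw [hval]
    by_cases e : p = q
    · subst e
      rw [if_pos rfl]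
      have h1 : (g * pinv g).ofConv (a p.1.2 p.1.2) = 1 := by rw [mul_pinv, AlgHom.convOne_apply, hd, map_one]
      rw [hmul, Finset.sum_eq_single p.1.2 (fun l _ hl => by rw [(hdiag _ _ (Ne.symm hl)).1, zero_mul]) (by simp)]
        at h1
      have h2 : g.ofConv (a p.1.1 p.1.1) = g.ofConv (a p.1.2 p.1.2) := by
        rw [← sub_eq_zero, ← map_sub, h _ p.2]
      rw [h2, h1]
    · rw [if_neg e]
      by_cases e1 : p.1.1 = q.1.1
      · rw [(hdiag q.1.2 p.1.2 fun h2 => e (Subtype.ext (Prod.ext e1 h2.symm))).2, mul_zero]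
      · rw [(hdiag _ _ e1).1, zero_mul]

end Groth.L08.NormalQuot
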